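import Cfsg.Agent.Lib.Helper98.WrSyl.EBase

set_option autoImplicit false

namespace Cfsg.Agent.Lib.Helper98.WrSyl

open Cfsg Cfsg.Agent.Lib.Helper58.WrSyl
open scoped MatrixGroups

variable {F : Type*} [Field F]

/-- pairs `(a, i)` against the two halves -/
def e2 (n : ℕ) : Fin 2 × Fin n ≃ Fin n ⊕ Fin n where
  toFun p := if p.1 = 0 then Sum.inl p.2 else Sum.inr p.2
  invFun := Sum.elim (fun i => (0, i)) (fun i => (1, i))
  left_inv := by rintro ⟨a, i⟩; fin_cases a <;> simp
  right_inv := by rintro (i | i) <;> simp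

lemma e2_J (n : ℕ) : Matrix.J (Fin n) F =
    reHom (e2 n) (wm (fun _ => (!![0, -1; 1, 0] : Matrix (Fin 2) (Fin 2) F)) 1) := by
  ext (i | i) (j | j) <;>
    simp [Matrix.J, reHom_apply, e2, wm_apply, Matrix.one_apply]
  split_ifs <;> simp

lemma sl2_J (g : Matrix.SpecialLinearGroup (Fin 2) F) :
    (g : Matrix (Fin 2) (Fin 2) F) * !![0, -1; 1, 0] * (g : Matrix (Fin 2) (Fin 2) F).transpose =
      !![0, -1; 1, 0] := by
  have hd := g.2
  rw [Matrix.det_fin_two] at hd
  ext i j
  fin_cases i <;> fin_cases j <;> simp [Matrix.mul_apply, Fin.sum_univ_two]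
  · ring
  · linear_combination -hd
  · linear_combination hd
  · ring

/-- the inclusion of `SL₂` in the matrices -/
def slHom : Matrix.SpecialLinearGroup (Fin 2) F →* Matrix (Fin 2) (Fin 2) F where
  toFun g := g.1
  map_one' := rfl
  map_mul' _ _ := rfl

lemma wm_sl_mem (n : ℕ) (x : Wr (Matrix.SpecialLinearGroup (Fin 2) F) n) :
    ((reHom (e2 n)).comp (wmHom slHom n)) x ∈ Matrix.symplecticGroup (Fin n) F := by
  rw [SymplecticGroup.mem_iff, e2_J, MonoidHom.comp_apply]
  have ht : (reHom (e2 n) (wmHom slHom n x)).transpose =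
      reHom (e2 n) (wmHom slHom n x).transpose := by
    rw [reHom_apply, reHom_apply, Matrix.transpose_reindex]
  rw [ht, ← map_mul, ← map_mul]
  congr 1
  rw [wmHom_apply, wm_transpose, wm_mul, wm_mul]
  congr 1
  · funext i
    simp only [mul_one]
    have := sl2_J (x.left i)
    simpa [slHom] using this
  · simp

lemma exists_codRestrict {G M : Type*} [Group G] [Monoid M] (S : Submonoid M) (f : G →* M)
    (hf : Function.Injective f) (hmem : ∀ x, f x ∈ S) :
    ∃ Φ : G →* S, Function.Injective Φ :=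
  ⟨f.codRestrict S hmem, fun x y h => hf (congrArg Subtype.val h)⟩

/-- [E1] -/
theorem exists_embed_sp {F : Type*} [Field F] (n : ℕ) :
    ∃ Φ : Wr (Matrix.SpecialLinearGroup (Fin 2) F) n →* Matrix.symplecticGroup (Fin n) F,
      Function.Injective Φ :=
  exists_codRestrict _ ((reHom (e2 n)).comp (wmHom slHom n))
    ((reHom_injective _).comp (wmHom_injective slHom (fun a b h => Subtype.ext h) n))
    (wm_sl_mem n)

end Cfsg.Agent.Lib.Helper98.WrSyl
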