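import Cfsg.Agent.Lib.Helper98.WrSyl.E5

set_option autoImplicit false

namespace Cfsg.Agent.Lib.Helper98.WrSyl

open Cfsg Cfsg.Agent.Lib.Helper58.WrSyl
open scoped MatrixGroups

variable {F : Type*} [Field F]

/-- `g ↦ diag (g, (det g)⁻¹)` as a matrix -/
noncomputable def slmHom (k : ℕ) : GL (Fin k) F →* Matrix (Fin (k + 1)) (Fin (k + 1)) F :=
  (reHom finSumFinEquiv).comp ((blkHom k).comp
    (MonoidHom.prod (MonoidHom.id _) (Matrix.GeneralLinearGroup.det)⁻¹))

lemma slmHom_injective (k : ℕ) : Function.Injective (slmHom (F := F) k) := by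
  refine (reHom_injective _).comp ((blkHom_injective k).comp ?_)
  intro a b h
  exact congrArg Prod.fst h

lemma slmHom_det (k : ℕ) (g : GL (Fin k) F) : (slmHom k g).det = 1 := by
  change (reHom finSumFinEquiv (blkHom k (g, (Matrix.GeneralLinearGroup.det g)⁻¹))).det = 1
  rw [reHom_apply, Matrix.det_reindex_self, blkHom_apply, Matrix.det_fromBlocks_zero₂₁,
    Matrix.det_diagonal]
  simp only [Finset.univ_unique, Finset.prod_singleton]
  rw [← Matrix.GeneralLinearGroup.val_det_apply, ← Units.val_mul, mul_inv_cancel, Units.val_one]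

/-- `g ↦ diag (g, (det g)⁻¹)` -/
noncomputable def slHom' (k : ℕ) : GL (Fin k) F →* Matrix.SpecialLinearGroup (Fin (k + 1)) F where
  toFun g := ⟨slmHom k g, slmHom_det k g⟩
  map_one' := Subtype.ext (map_one (slmHom k))
  map_mul' a b := Subtype.ext (map_mul (slmHom k) a b)

/-- [E2] -/
theorem exists_embed_sl_odd {F : Type*} [Field F] (m : ℕ) :
    ∃ Φ : Wr (GL (Fin 2) F) m →* Matrix.SpecialLinearGroup (Fin (2 * m + 1)) F,
      Function.Injective Φ := by
  obtain ⟨Φ, hΦ⟩ := exists_embed_gl_even (F := F) m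
  refine ⟨(slHom' (2 * m)).comp Φ, ?_⟩
  have h1 : Function.Injective (slHom' (F := F) (2 * m)) := by
    intro a b h
    exact slmHom_injective _ (congrArg Subtype.val h)
  exact h1.comp hΦ

end Cfsg.Agent.Lib.Helper98.WrSyl
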