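import Cfsg.Agent.Lib.Helper98.WrSyl.EBase

set_option autoImplicit false

namespace Cfsg.Agent.Lib.Helper98.WrSyl

open Cfsg Cfsg.Agent.Lib.Helper58.WrSyl
open scoped MatrixGroups

/-- [E3] -/
theorem exists_embed_mon {F : Type*} [Field F] (n : ℕ) :
    ∃ Φ : Wr Fˣ n →* GL (Fin n) F, Function.Injective Φ := by
  refine ⟨((reHom (Equiv.punitProd (Fin n))).comp
    (wmHom (((Matrix.scalar PUnit.{1}).toMonoidHom).comp (Units.coeHom F)) n)).toHomUnits, ?_⟩
  apply toHomUnits_injective
  refine (reHom_injective _).comp (wmHom_injective _ (fun a b h => ?_) n)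
  apply Units.ext
  exact Matrix.scalar_inj.1 h

end Cfsg.Agent.Lib.Helper98.WrSyl
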