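import Cfsg.Agent.Lib.Helper98.WrSyl.EBase

set_option autoImplicit false

namespace Cfsg.Agent.Lib.Helper98.WrSyl

open Cfsg Cfsg.Agent.Lib.Helper58.WrSyl
open scoped MatrixGroups

/-- [E4] -/
theorem exists_embed_gl_even {F : Type*} [Field F] (m : ℕ) :
    ∃ Φ : Wr (GL (Fin 2) F) m →* GL (Fin (2 * m)) F, Function.Injective Φ := by
  refine ⟨((reHom finProdFinEquiv).comp (wmHom (Units.coeHom _) m)).toHomUnits, ?_⟩
  apply toHomUnits_injective
  exact (reHom_injective _).comp (wmHom_injective _ (fun a b h => Units.ext h) m)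

end Cfsg.Agent.Lib.Helper98.WrSyl
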