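import Cfsg.Agent.Lib.Helper98.WrSyl.E4

set_option autoImplicit false

namespace Cfsg.Agent.Lib.Helper98.WrSyl

open Cfsg Cfsg.Agent.Lib.Helper58.WrSyl
open scoped MatrixGroups

variable {F : Type*} [Field F]

/-- one more coordinate -/
def blkHom (k : ℕ) : GL (Fin k) F × Fˣ →* Matrix (Fin k ⊕ Fin 1) (Fin k ⊕ Fin 1) F where
  toFun x := Matrix.fromBlocks (x.1 : Matrix (Fin k) (Fin k) F) 0 0
    (Matrix.diagonal fun _ => (x.2 : F))
  map_one' := by simp [Matrix.fromBlocks_one]
  map_mul' x y := by simp [Matrix.fromBlocks_multiply]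

lemma blkHom_apply (k : ℕ) (x : GL (Fin k) F × Fˣ) :
    blkHom k x = Matrix.fromBlocks (x.1 : Matrix (Fin k) (Fin k) F) 0 0
      (Matrix.diagonal fun _ => (x.2 : F)) := rfl

lemma blkHom_injective (k : ℕ) : Function.Injective (blkHom (F := F) k) := by
  rintro ⟨g, c⟩ ⟨g', c'⟩ h
  rw [blkHom_apply, blkHom_apply, Matrix.fromBlocks_inj] at h
  obtain ⟨h1, -, -, h2⟩ := h
  have h3 := congrFun (Matrix.diagonal_injective h2) 0
  exact Prod.ext (Units.ext h1) (Units.ext h3)

/-- [E5] -/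
theorem exists_embed_gl_odd {F : Type*} [Field F] (m : ℕ) :
    ∃ Φ : Wr (GL (Fin 2) F) m × Fˣ →* GL (Fin (2 * m + 1)) F, Function.Injective Φ := by
  obtain ⟨Φ, hΦ⟩ := exists_embed_gl_even (F := F) m
  refine ⟨(((reHom finSumFinEquiv).comp (blkHom (2 * m))).toHomUnits).comp
    (Φ.prodMap (MonoidHom.id Fˣ)), ?_⟩
  have h1 : Function.Injective ((reHom finSumFinEquiv).comp (blkHom (F := F) (2 * m))).toHomUnits :=
    toHomUnits_injective _ ((reHom_injective _).comp (blkHom_injective _))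
  have h2 : Function.Injective (Φ.prodMap (MonoidHom.id Fˣ)) := by
    rw [MonoidHom.coe_prodMap]
    exact Function.Injective.prodMap hΦ Function.injective_id
  exact h1.comp h2

end Cfsg.Agent.Lib.Helper98.WrSyl
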