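import Cfsg.Agent.Lib.Helper58.WrSyl.Defs

set_option autoImplicit false
set_option linter.unusedSectionVars false

/-! # Block monomial matrices: wreath products inside matrix groups -/

namespace Cfsg.Agent.Lib.Helper98.WrSyl

open Cfsg Cfsg.Agent.Lib.Helper58.WrSyl
open scoped MatrixGroups

variable {F : Type*} [Field F] {κ : Type*} [Fintype κ] [DecidableEq κ] {n : ℕ}

/-- the block monomial matrix with blocks `b i` and permutation `σ` -/
def wm (b : Fin n → Matrix κ κ F) (σ : Equiv.Perm (Fin n)) : Matrix (κ × Fin n) (κ × Fin n) F :=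
  Matrix.of fun p q => if p.2 = σ q.2 then b p.2 p.1 q.1 else 0

lemma wm_apply (b : Fin n → Matrix κ κ F) (σ : Equiv.Perm (Fin n)) (p q : κ × Fin n) :
    wm b σ p q = if p.2 = σ q.2 then b p.2 p.1 q.1 else 0 := rfl

lemma wm_mul (b b' : Fin n → Matrix κ κ F) (σ σ' : Equiv.Perm (Fin n)) :
    wm b σ * wm b' σ' = wm (fun i => b i * b' (σ.symm i)) (σ * σ') := by
  ext ⟨a, i⟩ ⟨c, j⟩
  simp only [Matrix.mul_apply, wm_apply, Fintype.sum_prod_type, mul_ite, mul_zero,
    Finset.sum_ite_eq', Finset.mem_univ, if_true, Equiv.Perm.mul_apply]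
  by_cases h : i = σ (σ' j)
  · subst h
    simp
  · simp [h]

lemma wm_one : wm (fun _ => (1 : Matrix κ κ F)) (1 : Equiv.Perm (Fin n)) = 1 := by
  ext ⟨a, i⟩ ⟨c, j⟩
  simp only [wm_apply, Matrix.one_apply, Equiv.Perm.one_apply, Prod.mk.injEq]
  by_cases h : i = j <;> by_cases h' : a = c <;> simp [h, h']

lemma wm_transpose (b : Fin n → Matrix κ κ F) (σ : Equiv.Perm (Fin n)) :
    (wm b σ).transpose = wm (fun i => (b (σ i)).transpose) σ⁻¹ := by
  ext ⟨c, j⟩ ⟨a, i⟩
  simp only [Matrix.transpose_apply, wm_apply]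
  by_cases h : i = σ j
  · subst h
    simp
  · have h' : ¬ j = σ⁻¹ i := by
      intro h2
      apply h
      rw [h2]
      simp
    rw [if_neg h, if_neg h']

/-- the wreath product acts by block monomial matrices -/
def wmHom {S : Type*} [Group S] (ρ : S →* Matrix κ κ F) (n : ℕ) :
    Wr S n →* Matrix (κ × Fin n) (κ × Fin n) F where
  toFun x := wm (fun i => ρ (x.left i)) x.right
  map_one' := by
    simp only [SemidirectProduct.one_left, SemidirectProduct.one_right, Pi.one_apply, map_one]
    exact wm_one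
  map_mul' x y := by
    rw [wm_mul]
    congr 1
    funext i
    simp only [SemidirectProduct.mul_left, Pi.mul_apply, map_mul, permAut_apply]

lemma wmHom_apply {S : Type*} [Group S] (ρ : S →* Matrix κ κ F) (n : ℕ) (x : Wr S n) :
    wmHom ρ n x = wm (fun i => ρ (x.left i)) x.right := rfl

lemma wmHom_injective [Nonempty κ] {S : Type*} [Group S] (ρ : S →* Matrix κ κ F)
    (hρ : Function.Injective ρ) (n : ℕ) : Function.Injective (wmHom ρ n) := by
  rw [injective_iff_map_eq_one]
  intro x hx
  have hne : ∀ s : S, ρ s ≠ 0 := by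
    intro s h0
    have h1 : ρ s * ρ s⁻¹ = 1 := by rw [← map_mul, mul_inv_cancel, map_one]
    rw [h0, zero_mul] at h1
    exact zero_ne_one h1
  have hσ : x.right = 1 := by
    apply Equiv.ext
    intro j
    by_contra hj
    apply hne (x.left (x.right j))
    ext a c
    have h1 := congrFun (congrFun hx (a, x.right j)) (c, j)
    have hj' : x.right j ≠ j := hj
    simpa [wmHom_apply, wm_apply, Matrix.one_apply, hj'] using h1
  have hb : x.left = 1 := by
    funext i
    apply hρ
    rw [Pi.one_apply, map_one]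
    ext a c
    have h1 := congrFun (congrFun hx (a, i)) (c, i)
    simpa [wmHom_apply, wm_apply, hσ, Matrix.one_apply] using h1
  exact SemidirectProduct.ext hb hσ

/-- reindexing as a monoid homomorphism -/
def reHom {α β : Type*} [Fintype α] [DecidableEq α] [Fintype β] [DecidableEq β] (e : α ≃ β) :
    Matrix α α F →* Matrix β β F :=
  (Matrix.reindexAlgEquiv F F e).toRingEquiv.toMulEquiv.toMonoidHom

lemma reHom_apply {α β : Type*} [Fintype α] [DecidableEq α] [Fintype β] [DecidableEq β]
    (e : α ≃ β) (M : Matrix α α F) : reHom e M = Matrix.reindex e e M := rfl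

lemma reHom_injective {α β : Type*} [Fintype α] [DecidableEq α] [Fintype β] [DecidableEq β]
    (e : α ≃ β) : Function.Injective (reHom (F := F) e) :=
  (Matrix.reindexAlgEquiv F F e).toRingEquiv.toMulEquiv.injective

lemma toHomUnits_injective {G M : Type*} [Group G] [Monoid M] (f : G →* M)
    (hf : Function.Injective f) : Function.Injective f.toHomUnits := by
  intro x y h
  apply hf
  have := congrArg (fun u : Mˣ => (u : M)) h
  simpa using this

end Cfsg.Agent.Lib.Helper98.WrSyl
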